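import Groth.Agent.GrFlat5.GrBaseChange
import Groth.Agent.GrFlat5.Uniform

/-!
# Stratifications on which all `M / Jᵏ M` are projective
-/

universe u

open TensorProduct

namespace Groth.Agent.GrFlat5

variable {A : Type u} [CommRing A] [IsNoetherianRing A] {B : Type u} [CommRing B] [Algebra A B]
  [Algebra.FiniteType A B] (J : Ideal B) (M : Type u) [AddCommGroup M] [Module B M] [Module A M]
  [IsScalarTower A B M] [Module.Finite B M]

attribute [local instance] Algebra.TensorProduct.rightAlgebra in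
/-- Generic projectivity after base change to a domain. -/
theorem exists_projective_baseChange (R' : Type u) [CommRing R'] [IsDomain R'] [IsNoetherianRing R'] [Algebra A R'] :
    ∃ f : R', f ≠ 0 ∧ ∀ (T : Type u) [CommRing T] [Algebra A T] [Algebra R' T] [IsScalarTower A R' T],
      IsUnit (algebraMap R' T f) → ∀ k, Module.Projective T (T ⊗[A] (M ⧸ (J ^ k • ⊤ : Submodule B M))) := by
  haveI : IsScalarTower A B (R' ⊗[A] B) := IsScalarTower.of_algebraMap_eq fun x => by
    show algebraMap A R' x ⊗ₜ[A] (1 : B) = (1 : R') ⊗ₜ[A] algebraMap A B x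
    rw [Algebra.algebraMap_eq_smul_one, Algebra.algebraMap_eq_smul_one, smul_tmul]
  have hbc : IsBaseChange (R' ⊗[A] B) (TensorProduct.mk B (R' ⊗[A] B) M 1) :=
    TensorProduct.isBaseChange B M (R' ⊗[A] B)
  obtain ⟨f, hf, hproj⟩ := exists_projective_quot (R := R') (B := R' ⊗[A] B) (M := (R' ⊗[A] B) ⊗[B] M)
    (J.map (algebraMap B (R' ⊗[A] B)))
  refine ⟨f, hf, fun T _ _ _ _ hu k => ?_⟩
  haveI := hproj T hu k
  let e₀ := LinearEquiv.ofBijective _
    (bijective_quotMap (B' := R' ⊗[A] B) (TensorProduct.mk B (R' ⊗[A] B) M 1) J hbc k)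
  let e₁ := (e₀.symm.restrictScalars R').trans
    (Algebra.IsPushout.cancelBaseChange A R' B (R' ⊗[A] B) (M ⧸ (J ^ k • ⊤ : Submodule B M)))
  exact Module.Projective.of_equiv ((LinearEquiv.baseChange R' T _ _ e₁).trans
    (AlgebraTensorModule.cancelBaseChange A R' T T (M ⧸ (J ^ k • ⊤ : Submodule B M))))

/-- Above each prime there is an open piece of its closure on which all `M / Jᵏ M` are projective. -/
theorem exists_piece_quot (p : Ideal A) [p.IsPrime] : ∃ f ∉ p, ∀ (T : Type u) [CommRing T] [Algebra A T],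
    (∀ x ∈ p, algebraMap A T x = 0) → IsUnit (algebraMap A T f) →
      ∀ k, Module.Projective T (T ⊗[A] (M ⧸ (J ^ k • ⊤ : Submodule B M))) := by
  obtain ⟨fb, hfb, hproj⟩ := exists_projective_baseChange (A := A) J M (A ⧸ p)
  obtain ⟨f, rfl⟩ := Ideal.Quotient.mk_surjective fb
  refine ⟨f, fun h => hfb (Ideal.Quotient.eq_zero_iff_mem.2 h), fun T _ _ hp hu k => ?_⟩
  letI : Algebra (A ⧸ p) T := (Ideal.Quotient.lift p (algebraMap A T) hp).toAlgebra
  haveI : IsScalarTower A (A ⧸ p) T := .of_algebraMap_eq fun _ => rfl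
  exact hproj T hu k

/-- Finitely many elements of the base cut out pieces on which all `M / Jᵏ M` are projective. -/
theorem exists_finset_pieces : ∃ E : Finset A, ∀ (T : Type u) [CommRing T] [Algebra A T],
    (∀ t ∈ E, IsUnit (algebraMap A T t) ∨ algebraMap A T t = 0) →
      ∀ k, Module.Projective T (T ⊗[A] (M ⧸ (J ^ k • ⊤ : Submodule B M))) := by
  classical
  suffices main : ∀ I : Ideal A, ∃ E : Finset A, ∀ (T : Type u) [CommRing T] [Algebra A T],
      (∀ t ∈ E, IsUnit (algebraMap A T t) ∨ algebraMap A T t = 0) → (∀ x ∈ I, algebraMap A T x = 0) →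
        Nontrivial T → ∀ k, Module.Projective T (T ⊗[A] (M ⧸ (J ^ k • ⊤ : Submodule B M))) by
    obtain ⟨E, hE⟩ := main ⊥
    refine ⟨E, fun T _ _ hT k => ?_⟩
    rcases subsingleton_or_nontrivial T with h | h
    · haveI := Module.subsingleton T (T ⊗[A] (M ⧸ (J ^ k • ⊤ : Submodule B M)))
      infer_instance
    · exact hE T hT (fun x hx => by rw [Submodule.mem_bot] at hx; simp [hx]) h k
  intro I
  induction I using WellFoundedGT.induction with
  | _ I ih =>
    by_cases hI : I = ⊤
    · exact ⟨∅, fun T _ _ _ h0 hT => absurd (by simpa using h0 1 (hI ▸ Submodule.mem_top)) (one_ne_zero (α := T))⟩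
    have hlt : ∀ z ∉ I, I < I ⊔ Ideal.span {z} := fun z hz =>
      lt_of_le_of_ne le_sup_left fun h => hz (h ▸ Ideal.mem_sup_right (Ideal.mem_span_singleton_self z))
    have hsup : ∀ (z : A) (T : Type u) [CommRing T] [Algebra A T], (∀ x ∈ I, algebraMap A T x = 0) →
        algebraMap A T z = 0 → ∀ x ∈ I ⊔ Ideal.span {z}, algebraMap A T x = 0 := fun z T _ _ h0 hz => by
      have : I ⊔ Ideal.span {z} ≤ RingHom.ker (algebraMap A T) :=
        sup_le h0 ((Ideal.span_singleton_le_iff_mem _).2 hz)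
      exact this
    by_cases hp : I.IsPrime
    · obtain ⟨f, hf, hg⟩ := exists_piece_quot J M I
      obtain ⟨E, hE⟩ := ih _ (hlt f hf)
      refine ⟨insert f E, fun T _ _ hT h0 hnt k => ?_⟩
      rcases hT f (Finset.mem_insert_self _ _) with h | h
      · exact hg T h0 h k
      · exact hE T (fun t ht => hT t (Finset.mem_insert_of_mem ht)) (hsup f T h0 h) hnt k
    · obtain ⟨x, hx, y, hy, hxy⟩ := (Ideal.not_isPrime_iff.1 hp).resolve_left hI
      obtain ⟨E, hE⟩ := ih _ (hlt x hx)
      obtain ⟨E', hE'⟩ := ih _ (hlt y hy)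
      refine ⟨insert x (insert y (E ∪ E')), fun T _ _ hT h0 hnt k => ?_⟩
      have hx' := hT x (Finset.mem_insert_self _ _)
      have hy' := hT y (Finset.mem_insert_of_mem (Finset.mem_insert_self _ _))
      have hEmem : ∀ t ∈ E ∪ E', IsUnit (algebraMap A T t) ∨ algebraMap A T t = 0 := fun t ht =>
        hT t (Finset.mem_insert_of_mem (Finset.mem_insert_of_mem ht))
      rcases hx' with hux | hx0
      · refine hE' T (fun t ht => hEmem t (Finset.mem_union_right _ ht)) (hsup y T h0 ?_) hnt k
        have h1 := h0 _ hxy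
        rw [map_mul] at h1
        exact hux.mul_right_eq_zero.1 h1
      · exact hE T (fun t ht => hEmem t (Finset.mem_union_left _ ht)) (hsup x T h0 hx0) hnt k

end Groth.Agent.GrFlat5
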